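import Cfsg.Agent.Lib.Zsigmondy
import Cfsg.Agent.H851.Dg.Count
import Cfsg.Agent.H884.CxMain_m3
import Mathlib
import Cfsg.Agent.H514.DP.Cyc_m3
import Cfsg.Agent.Prune
set_option linter.all false

section
prune_inst 0x7f00000000000000000000000000000000000000000000000000000000000000000000000000000000000000000000000000000000000000000000000000000000000000000000000000000000000000003fffffffffffffffffffffffffffbeffbdffffffff

-- part: H851/Dg/NumT
section
set_option linter.all false
open scoped Cfsg.Agent.FastGrp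

-- part: H851/Dg/Num
section
/-!
# S5734: for large `q` some prime power dividing `Φ_e(q)` is large
-/

set_option autoImplicit false

namespace Cfsg.Agent.H851.Dg

open Polynomial Cfsg.Agent.Lib.Zsigmondy

/-- the imprimitive primes divide `Φ_e(a)` at most once -/
theorem val_le_one {a n : ℕ} (ha : 2 ≤ a) (hn : 3 ≤ n) {r : ℕ} (hr : r.Prime)
    (hrN : r ∣ ((cyclotomic n ℤ).eval (a : ℤ)).natAbs) (hcon : orderOf (a : ZMod r) ≠ n) :
    r ∣ n ∧ padicValNat r ((cyclotomic n ℤ).eval (a : ℤ)).natAbs ≤ 1 := by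
  set N : ℕ := ((cyclotomic n ℤ).eval (a : ℤ)).natAbs with hN
  have hNgt : a - 1 < N := sub_one_lt_natAbs_cyclotomic_eval (by omega) (by omega)
  have := Fact.mk hr
  obtain ⟨k, m, hm, hnk⟩ := Nat.exists_eq_pow_mul_and_not_dvd (n := n) (by omega) r hr.ne_one
  have hroot : (cyclotomic (r ^ k * m) (ZMod r)).IsRoot (a : ZMod r) := by
    rw [← hnk]
    have h1 : (((cyclotomic n ℤ).eval (a : ℤ) : ℤ) : ZMod r) = 0 := by
      rw [ZMod.intCast_zmod_eq_zero_iff_dvd]
      exact Int.natCast_dvd.2 hrN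
    rw [IsRoot.def, ← map_cyclotomic_int n (ZMod r)]
    have h3 : (a : ZMod r) = (Int.castRingHom (ZMod r)) (a : ℤ) := by simp
    rw [h3, eval_map_apply]
    simpa only [_root_.eq_intCast] using h1
  have : NeZero (m : ZMod r) := ⟨fun h => hm ((ZMod.natCast_eq_zero_iff m r).1 h)⟩
  rw [isRoot_cyclotomic_prime_pow_mul_iff_of_charP] at hroot
  have hord : orderOf (a : ZMod r) = m := hroot.eq_orderOf.symm
  have hm0 : 0 < m := Nat.pos_of_ne_zero (by rintro rfl; exact hm (dvd_zero r))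
  obtain ⟨k, rfl⟩ : ∃ k', k = k' + 1 := by
    cases k with
    | zero =>
      exfalso
      refine hcon ?_
      rw [hord, hnk]; simp
    | succ k => exact ⟨k, rfl⟩
  have hmr : m ∣ r - 1 := by
    rw [← hord]
    apply orderOf_dvd_pred hr
    intro hra
    have h0 : (a : ZMod r) = 0 := (ZMod.natCast_eq_zero_iff a r).2 hra
    have := hroot.pow_eq_one
    rw [h0, zero_pow hm0.ne'] at this
    exact zero_ne_one this
  have hrn : r ∣ n := by
    rw [hnk]
    exact Dvd.dvd.mul_right (dvd_pow_self r (Nat.succ_ne_zero k)) m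
  refine ⟨hrn, ?_⟩
  have hNval : ((cyclotomic n ℤ).eval (a : ℤ)) = (N : ℤ) := by
    rw [hN]
    refine (Int.natAbs_of_nonneg ?_).symm
    exact cyclotomic_nonneg n (by exact_mod_cast (by omega : 1 ≤ a))
  rcases Nat.lt_or_ge 2 r with hr2 | hr2
  swap
  · obtain rfl : r = 2 := le_antisymm hr2 hr.two_le
    have hm1 : m = 1 := Nat.dvd_one.1 (by simpa using hmr)
    subst hm1
    have hev : ((cyclotomic n ℤ).eval (a : ℤ)) = (a : ℤ) ^ 2 ^ k + 1 := by
      have := eval_cyclotomic_pow Nat.prime_two 1 k (a : ℤ)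
      rw [show n = 1 * 2 ^ (k + 1) by rw [hnk]; ring, this]
      simp [cyclotomic_two]
    have hNa : N = a ^ 2 ^ k + 1 := by
      have : (N : ℤ) = (a : ℤ) ^ 2 ^ k + 1 := by rw [← hNval, hev]
      exact_mod_cast this
    obtain ⟨k, rfl⟩ : ∃ k', k = k' + 1 := by
      cases k with
      | zero =>
        exfalso
        simp at hnk
        omega
      | succ k => exact ⟨k, rfl⟩
    have hsq : N = (a ^ 2 ^ k) ^ 2 + 1 := by rw [hNa, ← pow_mul, pow_succ]
    have h4 : ¬ 4 ∣ N := by
      rw [hsq]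
      intro h
      have h5 : ((a ^ 2 ^ k) ^ 2 + 1) % 4 = 0 := Nat.mod_eq_zero_of_dvd h
      have h6 : (a ^ 2 ^ k) % 4 < 4 := Nat.mod_lt _ (by norm_num)
      rw [Nat.add_mod, Nat.pow_mod] at h5
      interval_cases (a ^ 2 ^ k) % 4 <;> simp at h5
    by_contra h
    push Not at h
    refine h4 ((pow_dvd_pow 2 h).trans pow_padicValNat_dvd)
  · have hodd : Odd r := hr.odd_of_ne_two (by omega)
    have hdvd : ((a : ℤ) ^ (r ^ k * m) - 1) * (N : ℤ) ∣ (a : ℤ) ^ n - 1 := by
      have hprop : r ^ k * m ∈ n.properDivisors := by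
        rw [Nat.mem_properDivisors]
        refine ⟨⟨r, by rw [hnk]; ring⟩, ?_⟩
        rw [hnk]
        have : r ^ k * m < r ^ k * m * r := by
          have : 0 < r ^ k * m := Nat.mul_pos (pow_pos hr.pos k) hm0
          nlinarith only [hr2, this]
        calc r ^ k * m < r ^ k * m * r := this
          _ = r ^ (k + 1) * m := by ring
      have := X_pow_sub_one_mul_cyclotomic_dvd_X_pow_sub_one_of_dvd ℤ hprop
      have h' := eval_dvd (x := (a : ℤ)) this
      simpa only [hNval, _root_.Polynomial.eval_mul, _root_.Polynomial.eval_sub, _root_.Polynomial.eval_pow, _root_.Polynomial.eval_X, _root_.Polynomial.eval_one] using h'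
    set c : ℕ := a ^ (r ^ k * m) with hc
    have hc1 : 1 < c := Nat.one_lt_pow (Nat.mul_pos (pow_pos hr.pos k) hm0).ne' (by omega)
    have hcr : a ^ n = c ^ r := by rw [hc, ← pow_mul, hnk]; congr 1; ring
    have hdvd' : (c - 1) * N ∣ c ^ r - 1 := by
      have h1 : (((c - 1) * N : ℕ) : ℤ) ∣ ((c ^ r - 1 : ℕ) : ℤ) := by
        rw [Nat.cast_mul, Nat.cast_sub hc1.le, Nat.cast_sub (Nat.one_le_pow _ _ (by omega)), ← hcr]
        push_cast
        simpa only [hc, _root_.Nat.cast_pow] using hdvd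
      exact_mod_cast h1
    have hrc : r ∣ c - 1 := by
      rw [hc, dvd_pow_sub_one_iff (by omega), hord]
      exact Dvd.intro_left _ rfl
    have hrc' : ¬ r ∣ c := by
      intro h
      have : r ∣ 1 := by
        have h1 : c = (c - 1) + 1 := by omega
        rw [h1] at h
        exact (Nat.dvd_add_right hrc).1 h
      exact hr.one_lt.ne' (Nat.dvd_one.1 this)
    have hlte : padicValNat r (c ^ r - 1 ^ r) = padicValNat r (c - 1) + padicValNat r r :=
      padicValNat.pow_sub_pow hodd hc1 hrc hrc' hr.ne_zero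
    rw [one_pow, padicValNat_self] at hlte
    have hle : padicValNat r ((c - 1) * N) ≤ padicValNat r (c ^ r - 1) := by
      apply (padicValNat_dvd_iff_le (p := r) ?_).1
      · exact (pow_padicValNat_dvd).trans hdvd'
      · have : 1 < c ^ r := Nat.one_lt_pow hr.ne_zero hc1
        omega
    rw [padicValNat.mul (by omega) (by omega), hlte] at hle
    omega

/-- **Large primitive prime powers.** -/
theorem exists_pow_gt {e : ℕ} (he : 3 ≤ e) (B : ℕ) : ∃ Q : ℕ, ∀ q : ℕ, Q ≤ q → ∃ u j : ℕ, u.Prime ∧ 1 ≤ j ∧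
    orderOf (q : ZMod u) = e ∧ u ^ j ∣ q ^ e - 1 ∧ B < u ^ j := by
  set C := max B e + 1 with hC
  refine ⟨C ^ C + 2, fun q hq => ?_⟩
  by_contra hcon
  push Not at hcon
  set N : ℕ := ((cyclotomic e ℤ).eval (q : ℤ)).natAbs with hN
  have hNgt : q - 1 < N := sub_one_lt_natAbs_cyclotomic_eval (by omega) (by omega)
  have hNd : N ∣ q ^ e - 1 := by
    have h1 : cyclotomic e ℤ ∣ X ^ e - 1 := cyclotomic.dvd_X_pow_sub_one e ℤ
    have h2 := eval_dvd (x := (q : ℤ)) h1
    rw [eval_sub, eval_pow, eval_X, eval_one] at h2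
    have h3 : ((N : ℕ) : ℤ) ∣ ((q ^ e - 1 : ℕ) : ℤ) := by
      rw [Nat.cast_sub (Nat.one_le_pow _ _ (by omega)), hN]
      push_cast
      rwa [abs_dvd]
    exact_mod_cast h3
  have hb : ∀ r ∈ N.primeFactors, r ^ N.factorization r ≤ C := by
    intro r hr
    obtain ⟨hrp, hrN, hN0⟩ := Nat.mem_primeFactors.1 hr
    by_cases h : orderOf (q : ZMod r) = e
    · have h1 := hcon r (N.factorization r) hrp
        ((hrp.dvd_iff_one_le_factorization hN0).1 hrN) h ((Nat.ordProj_dvd N r).trans hNd)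
      exact h1.trans (by omega)
    · obtain ⟨h1, h2⟩ := val_le_one (by omega) he hrp hrN h
      have h3 : r ≤ e := Nat.le_of_dvd (by omega) h1
      rw [← Nat.factorization_def N hrp] at h2
      calc r ^ N.factorization r ≤ r ^ 1 := Nat.pow_le_pow_right hrp.pos h2
        _ = r := pow_one r
        _ ≤ C := by omega
  have hprod : N = ∏ r ∈ N.primeFactors, r ^ N.factorization r := by
    conv_lhs => rw [← Nat.prod_factorization_pow_eq_self (show N ≠ 0 by omega)]
    rfl
  have h1 : N ≤ C ^ N.primeFactors.card := by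
    conv_lhs => rw [hprod]
    exact Finset.prod_le_pow_card _ _ _ hb
  have h2 : N.primeFactors.card ≤ C := by
    have h3 : N.primeFactors ⊆ Finset.Icc 1 C := by
      intro r hr
      have hrp := (Nat.mem_primeFactors.1 hr)
      refine Finset.mem_Icc.2 ⟨hrp.1.one_le, ?_⟩
      calc r = r ^ 1 := (pow_one r).symm
        _ ≤ r ^ N.factorization r := Nat.pow_le_pow_right hrp.1.pos
          ((hrp.1.dvd_iff_one_le_factorization hrp.2.2).1 hrp.2.1)
        _ ≤ C := hb r hr
    have := Finset.card_le_card h3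
    rwa [Nat.card_Icc, Nat.add_sub_cancel] at this
  have h3 : N ≤ C ^ C := h1.trans (Nat.pow_le_pow_right (by omega) h2)
  omega

end Cfsg.Agent.H851.Dg
end

-- part: H851/Dg/NumT
section
/-!
# S5734: large prime powers in the orders of the classical groups of bounded dimension
-/

set_option autoImplicit false

namespace Cfsg.Agent.H851.Dg

open Cfsg.Agent.OrdDiv Cfsg.Agent.H436
open Cfsg.Agent.H278.El.AltNum (dimOf)

/-- the classical groups treated by the general rows -/
def BigCl : Grp → Prop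
  | .psl n _ => 4 ≤ n
  | .psu n _ => 4 ≤ n
  | .psp m _ => 3 ≤ m
  | .oodd m _ => 3 ≤ m
  | .oplus m _ => 4 ≤ m
  | .ominus m _ => 4 ≤ m
  | _ => False

/-- the parameter `q` of a classical group -/
def qOf : Grp → ℕ
  | .psl _ q => q
  | .psp _ q => q
  | .psu _ q => q
  | .oodd _ q => q
  | .oplus _ q => q
  | .ominus _ q => q
  | _ => 0

section

variable {q u e : ℕ}

theorem ord_facts (hu : u.Prime) (he : 3 ≤ e) (ho : orderOf (q : ZMod u) = e) (hq : 1 ≤ q) :
    (∀ m, u ∣ q ^ m - 1 ↔ e ∣ m) ∧ ¬ u ∣ q ∧ e < u := by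
  have h1 : ∀ m, u ∣ q ^ m - 1 ↔ e ∣ m := fun m => by
    rw [Cfsg.Agent.Lib.Zsigmondy.dvd_pow_sub_one_iff hq, ho]
  have h2 : ¬ u ∣ q := by
    intro h
    have := Fact.mk hu
    have h3 : (q : ZMod u) = 0 := (ZMod.natCast_eq_zero_iff _ _).2 h
    have h4 : (q : ZMod u) ^ e = 1 := by rw [← ho, pow_orderOf_eq_one]
    rw [h3, zero_pow (by omega)] at h4
    exact zero_ne_one h4
  refine ⟨h1, h2, ?_⟩
  have h3 := Cfsg.Agent.Lib.Zsigmondy.orderOf_dvd_pred hu h2
  rw [ho] at h3
  have h4 := Nat.le_of_dvd (by have := hu.two_le; omega) h3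
  have := hu.two_le
  omega

theorem pow_dvd_c {j d c X : ℕ} (hu : u.Prime) (hd : ¬ u ∣ d) (h : d * c = X) (hX : u ^ j ∣ X) : u ^ j ∣ c := by
  rw [← h] at hX
  exact (Nat.Coprime.pow_left j ((Nat.Prime.coprime_iff_not_dvd hu).2 hd)).dvd_of_dvd_mul_left hX

theorem pow_dvd_add {j m : ℕ} (hu : u.Prime) (h1 : ¬ u ∣ q ^ m - 1) (hd : u ^ j ∣ q ^ (2 * m) - 1) :
    u ^ j ∣ q ^ m + 1 := by
  have h4 : q ^ (2 * m) - 1 = (q ^ m + 1) * (q ^ m - 1) := by
    rw [mul_comm 2 m, pow_mul]
    have := Nat.sq_sub_sq (q ^ m) 1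
    rw [one_pow] at this
    exact this
  rw [h4] at hd
  exact (Nat.Coprime.pow_left j ((Nat.Prime.coprime_iff_not_dvd hu).2 h1)).dvd_of_dvd_mul_right hd

theorem not_dvd_small (hu : u.Prime) (he : 3 ≤ e) (h : e < u) : ¬ u ∣ 2 ∧ ¬ u ∣ 4 := by
  have h2 : ¬ u ∣ 2 := fun h => by have := Nat.le_of_dvd (by norm_num) h; omega
  refine ⟨h2, fun h4 => h2 ?_⟩
  exact hu.dvd_of_dvd_pow (show u ∣ 2 ^ 2 by simpa using h4)

/-- the exponent for the unitary groups -/
def eU (n : ℕ) : ℕ := if n % 2 = 1 then 2 * n else if n % 4 = 0 then n else n / 2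

theorem eU_ge {n : ℕ} (hn : 4 ≤ n) : 3 ≤ eU n := by
  unfold eU
  split_ifs <;> omega

theorem eU_le {n : ℕ} : eU n ≤ 2 * n := by
  unfold eU
  split_ifs <;> (clear * -; omega)

theorem orderOf_neg_eq {n : ℕ} (hu : u.Prime) (hn : 4 ≤ n) (hq : 1 ≤ q) (ho : orderOf (q : ZMod u) = eU n) :
    orderOf (-(q : ZMod u)) = n := by
  obtain ⟨h1, h2, h3⟩ := ord_facts hu (eU_ge hn) ho hq
  have := Fact.mk hu
  have hu2 : u ≠ 2 := by have := eU_ge hn; omega
  have hne : (1 : ZMod u) ≠ -1 := by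
    intro h
    have h4 : (2 : ZMod u) = 0 := by
      have : (1 : ZMod u) + 1 = 0 := by nth_rewrite 2 [h]; ring
      rw [← this]; norm_num
    have h5 : ((2 : ℕ) : ZMod u) = 0 := by exact_mod_cast h4
    rw [ZMod.natCast_eq_zero_iff] at h5
    have := Nat.le_of_dvd (by norm_num) h5
    have := hu.two_le
    omega
  have hx : ∀ k, (q : ZMod u) ^ k = 1 ↔ eU n ∣ k := fun k => by rw [← ho, orderOf_dvd_iff_pow_eq_one]
  have hn0 : 0 < n := by omega
  -- the criterion
  have hsq : ∀ k, (-(q : ZMod u)) ^ k = 1 → (q : ZMod u) ^ (2 * k) = 1 := fun k hk => by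
    have h4 : (q : ZMod u) ^ (2 * k) = ((-(q : ZMod u)) ^ k) ^ 2 := by
      rw [← pow_mul, mul_comm k 2, pow_mul, pow_mul, neg_sq]
    rw [h4, hk, one_pow]
  have key : ∀ k, (-(q : ZMod u)) ^ k = 1 ↔ n ∣ k := by
    intro k
    unfold eU at hx
    split_ifs at hx with h4 h5
    · -- `n` odd
      have hodd : Odd n := Nat.odd_iff.2 h4
      have hxn : (q : ZMod u) ^ n = -1 := by
        have h6 : ((q : ZMod u) ^ n) ^ 2 = 1 := by rw [← pow_mul, mul_comm]; exact (hx _).2 dvd_rfl
        rcases sq_eq_one_iff.1 h6 with h | h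
        · have h7 := (hx n).1 h
          have := Nat.le_of_dvd hn0 h7
          omega
        · exact h
      constructor
      · intro hk
        have h7 := (hx _).1 (hsq k hk)
        exact (Nat.mul_dvd_mul_iff_left (by norm_num)).1 h7
      · rintro ⟨t, rfl⟩
        rw [pow_mul, hodd.neg_pow, hxn, neg_neg, one_pow]
    · constructor
      · intro hk
        obtain ⟨s, hs⟩ := Nat.dvd_of_mod_eq_zero h5
        have h7 := (hx _).1 (hsq k hk)
        have h8 : 2 * s ∣ k := by
          rw [hs, show 4 * s = 2 * (2 * s) by ring] at h7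
          exact (Nat.mul_dvd_mul_iff_left (by norm_num)).1 h7
        have h9 : Even k := by
          obtain ⟨t, rfl⟩ := h8
          exact ⟨s * t, by ring⟩
        rw [h9.neg_pow] at hk
        exact (hx k).1 hk
      · intro hk
        obtain ⟨s, hs⟩ := Nat.dvd_of_mod_eq_zero h5
        have h9 : Even k := by
          obtain ⟨t, rfl⟩ := hk
          exact ⟨2 * s * t, by rw [hs]; ring⟩
        rw [h9.neg_pow]
        exact (hx k).2 hk
    · have hn2 : n = 2 * (n / 2) := by omega
      have hodd : Odd (n / 2) := Nat.odd_iff.2 (by omega)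
      have hcop : Nat.Coprime (n / 2) 2 := by
        rw [Nat.coprime_comm, Nat.coprime_two_left]
        exact hodd
      constructor
      · intro hk
        have h7 := (hx _).1 (hsq k hk)
        have h8 : n / 2 ∣ k := hcop.dvd_of_dvd_mul_left h7
        have h9 : Even k := by
          by_contra hcon
          have h10 : Odd k := Nat.not_even_iff_odd.1 hcon
          rw [h10.neg_pow, (hx k).2 h8] at hk
          exact hne hk.symm
        have h11 : n / 2 * 2 ∣ k := hcop.mul_dvd_of_dvd_of_dvd h8 (even_iff_two_dvd.1 h9)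
        rw [hn2, mul_comm]
        exact h11
      · intro hk
        have h9 : Even k := by
          obtain ⟨t, rfl⟩ := hk
          exact ⟨n / 2 * t, by rw [← two_mul, ← mul_assoc, ← hn2]⟩
        rw [h9.neg_pow]
        exact (hx k).2 ((Dvd.intro_left 2 hn2.symm).trans hk)
  apply Nat.dvd_antisymm
  · rw [orderOf_dvd_iff_pow_eq_one]
    exact (key n).2 dvd_rfl
  · exact (key _).1 (pow_orderOf_eq_one _)

end

/-- the exponent used for `g` -/
def eOf : Grp → ℕ
  | .psl n _ => n
  | .psu n _ => eU n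
  | .psp m _ => 2 * m
  | .oodd m _ => 2 * m
  | .oplus m _ => 2 * (m - 1)
  | .ominus m _ => 2 * m
  | _ => 0

theorem eOf_facts {g : Grp} (hg : BigCl g) : 3 ≤ eOf g ∧ eOf g ≤ 2 * dimOf g := by
  cases g with
  | psl n q => exact ⟨(show 3 ≤ n from (by have : 4 ≤ n := hg; omega)), show n ≤ 2 * n by omega⟩
  | psu n q => exact ⟨eU_ge hg, eU_le⟩
  | psp m q => exact ⟨show 3 ≤ 2 * m from (by have : 3 ≤ m := hg; omega), show 2 * m ≤ 2 * (2 * m) by omega⟩
  | oodd m q => exact ⟨show 3 ≤ 2 * m from (by have : 3 ≤ m := hg; omega), show 2 * m ≤ 2 * (2 * m + 1) by omega⟩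
  | oplus m q => exact ⟨show 3 ≤ 2 * (m - 1) from (by have : 4 ≤ m := hg; omega),
      show 2 * (m - 1) ≤ 2 * (2 * m) by omega⟩
  | ominus m q => exact ⟨show 3 ≤ 2 * m from (by have : 4 ≤ m := hg; omega), show 2 * m ≤ 2 * (2 * m) by omega⟩
  | _ => exact hg.elim

theorem qOf_ge {g : Grp} (hg : BigCl g) (hc : Cond g) : 2 ≤ qOf g := by
  cases g with
  | psl n q => exact hc.2.2.two_le
  | psu n q => exact hc.2.2.two_le
  | psp m q => exact hc.2.2.two_le
  | oodd m q => exact hc.2.2.two_le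
  | oplus m q => exact hc.2.two_le
  | ominus m q => exact hc.2.two_le
  | _ => exact hg.elim

/-- the primes of order `eOf g` are large primes, and their powers in `q ^ e - 1` divide the order of the group -/
theorem bigU_of {g : Grp} (hg : BigCl g) (hc : Cond g) {c : ℕ} (h : den g * c = num g) {u j : ℕ} (hu : u.Prime)
    (ho : orderOf ((qOf g : ℕ) : ZMod u) = eOf g) (hd : u ^ j ∣ qOf g ^ eOf g - 1) : BigU g u ∧ u ^ j ∣ c := by
  obtain ⟨h3, -⟩ := eOf_facts hg
  have hq2 := qOf_ge hg hc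
  obtain ⟨h1, h2, h4⟩ := ord_facts hu h3 ho (by omega)
  obtain ⟨h5, h6⟩ := not_dvd_small hu h3 h4
  have hq1 : ¬ u ∣ qOf g - 1 := by
    intro h
    have := (h1 1).1 (by rw [pow_one]; exact h)
    have := Nat.le_of_dvd (by norm_num) this
    omega
  cases g with
  | psl n q =>
    have hn : 4 ≤ n := hg
    have ho : orderOf ((q : ℕ) : ZMod u) = n := ho
    refine ⟨⟨hu, by rw [ho]; omega, by rw [ho]⟩, ?_⟩
    refine pow_dvd_c hu (d := Nat.gcd n (q - 1) * (q - 1)) ?_ (h : _ = glN n q) ?_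
    · intro h7
      rcases hu.dvd_mul.1 h7 with h8 | h8
      · exact hq1 (h8.trans (Nat.gcd_dvd_right _ _))
      · exact hq1 h8
    · have h7 := dvd_list (fun i => q ^ n - q ^ i) (n := n) (i := 0) (by omega)
      rw [pow_zero] at h7
      exact Dvd.dvd.trans hd h7
  | psu n q =>
    have hn : 4 ≤ n := hg
    have ho : orderOf ((q : ℕ) : ZMod u) = eU n := ho
    have hq2 : 2 ≤ q := hq2
    have ho' := orderOf_neg_eq hu hn (by omega) ho
    refine ⟨⟨hu, by rw [ho']; omega, by rw [ho']⟩, ?_⟩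
    have hqp : ¬ u ∣ q + 1 := by
      intro h7
      have h8 : u ∣ q ^ 2 - 1 := by
        have := Nat.sq_sub_sq q 1
        rw [one_pow] at this
        rw [this]
        exact h7.mul_right _
      have h9 := Nat.le_of_dvd (by norm_num) ((h1 2).1 h8)
      omega
    refine pow_dvd_c hu (d := Nat.gcd n (q + 1) * (q + 1)) ?_ (h : _ = q ^ (n * (n - 1) / 2) * prU q n) ?_
    · intro h7
      rcases hu.dvd_mul.1 h7 with h8 | h8
      · exact hqp (h8.trans (Nat.gcd_dvd_right _ _))
      · exact hqp h8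
    · have h7 := dvd_list (fU q) (n := n) (i := n - 1) (by omega)
      refine Dvd.dvd.trans ?_ (Dvd.dvd.mul_left h7 _)
      have h8 : u ^ j ∣ q ^ eU n - 1 := hd
      unfold fU
      rcases Nat.even_or_odd' n with ⟨k, hk | hk⟩
      · have h9 : (n - 1) % 2 = 1 := by omega
        rw [h9, Nat.sub_add_cancel (by omega)]
        change u ^ j ∣ q ^ n - 1
        have h10 : eU n ∣ n := by
          unfold eU
          rw [if_neg (by omega)]
          split_ifs
          · exact dvd_rfl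
          · exact ⟨2, by (clear * - hk; omega)⟩
        refine h8.trans ?_
        have h11 := Nat.pow_sub_pow_dvd_pow_sub_pow q 1 h10
        rwa [one_pow, one_pow] at h11
      · have h9 : (n - 1) % 2 = 0 := by omega
        rw [h9, Nat.sub_add_cancel (by omega)]
        change u ^ j ∣ q ^ n + 1
        refine pow_dvd_add hu ?_ ?_
        · intro h10
          have h11 := Nat.le_of_dvd (by omega) ((h1 n).1 h10)
          have h12 : eOf (Grp.psu n q) = 2 * n := by
            change eU n = _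
            unfold eU
            rw [if_pos (by omega)]
          rw [h12] at h11
          omega
        · have h12 : eU n = 2 * n := by
            unfold eU
            rw [if_pos (by omega)]
          rw [← h12]
          exact h8
  | psp m q =>
    have hm : 3 ≤ m := hg
    have ho : orderOf ((q : ℕ) : ZMod u) = 2 * m := ho
    refine ⟨⟨hu, Or.inl ⟨by rw [ho]; exact even_two_mul m, by rw [ho]; omega, by rw [ho]⟩⟩, ?_⟩
    refine pow_dvd_c hu (d := Nat.gcd 2 (q - 1)) (fun h7 => h5 (h7.trans (Nat.gcd_dvd_left _ _)))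
      (h : _ = q ^ (m ^ 2) * prB q m) ?_
    have h7 := prB_dvd (q := q) (m := m) (i := m - 1) (by omega)
    rw [Nat.sub_add_cancel (by omega)] at h7
    exact (Dvd.dvd.trans hd h7).mul_left _
  | oodd m q =>
    have hm : 3 ≤ m := hg
    have ho : orderOf ((q : ℕ) : ZMod u) = 2 * m := ho
    refine ⟨⟨hu, Or.inl ⟨by rw [ho]; exact even_two_mul m, by rw [ho]; omega, by rw [ho]⟩⟩, ?_⟩
    refine pow_dvd_c hu (d := 2) h5 (h : _ = q ^ (m ^ 2) * prB q m) ?_
    have h7 := prB_dvd (q := q) (m := m) (i := m - 1) (by omega)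
    rw [Nat.sub_add_cancel (by omega)] at h7
    exact (Dvd.dvd.trans hd h7).mul_left _
  | oplus m q =>
    have hm : 4 ≤ m := hg
    have ho : orderOf ((q : ℕ) : ZMod u) = 2 * (m - 1) := ho
    refine ⟨⟨hu, Or.inl ⟨by rw [ho]; exact even_two_mul _, by rw [ho]; omega, by rw [ho]⟩⟩, ?_⟩
    refine pow_dvd_c hu (d := Nat.gcd 4 (q ^ m - 1)) (fun h7 => h6 (h7.trans (Nat.gcd_dvd_left _ _)))
      (h : _ = q ^ (m * (m - 1)) * ((q ^ m - 1) * prB q (m - 1))) ?_
    have h7 := prB_dvd (q := q) (m := m - 1) (i := m - 2) (by omega)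
    rw [show m - 2 + 1 = m - 1 by omega] at h7
    exact ((Dvd.dvd.trans hd h7).mul_left _).mul_left _
  | ominus m q =>
    have hm : 4 ≤ m := hg
    have ho : orderOf ((q : ℕ) : ZMod u) = 2 * m := ho
    refine ⟨⟨hu, Or.inl ⟨by rw [ho]; exact even_two_mul m, by rw [ho]; omega, by rw [ho]⟩⟩, ?_⟩
    refine pow_dvd_c hu (d := Nat.gcd 4 (q ^ m + 1)) (fun h7 => h6 (h7.trans (Nat.gcd_dvd_left _ _)))
      (h : _ = q ^ (m * (m - 1)) * ((q ^ m + 1) * prB q (m - 1))) ?_
    refine (Dvd.dvd.mul_right ?_ _).mul_left _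
    refine pow_dvd_add hu ?_ hd
    intro h10
    have h11 := Nat.le_of_dvd (by omega) ((h1 m).1 h10)
    have h12 : eOf (Grp.ominus m q) = 2 * m := rfl
    rw [h12] at h11
    omega
  | _ => exact hg.elim

/-- **Bounded dimension, large `q`**: a power of a large prime divides the order and exceeds a given bound. -/
theorem exists_bigPow (N B : ℕ) : ∃ Q : ℕ, ∀ g : Grp, BigCl g → Cond g → ∀ c : ℕ, den g * c = num g → dimOf g ≤ N →
    Q ≤ qOf g → ∃ u j, BigU g u ∧ 1 ≤ j ∧ u ^ j ∣ c ∧ B < u ^ j := by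
  have h : ∀ e, ∃ Q : ℕ, 3 ≤ e → ∀ q : ℕ, Q ≤ q → ∃ u j : ℕ, u.Prime ∧ 1 ≤ j ∧
      orderOf (q : ZMod u) = e ∧ u ^ j ∣ q ^ e - 1 ∧ B < u ^ j := fun e => by
    by_cases he : 3 ≤ e
    · obtain ⟨Q, hQ⟩ := exists_pow_gt he B
      exact ⟨Q, fun _ => hQ⟩
    · exact ⟨0, fun h => absurd h he⟩
  choose Q hQ using h
  refine ⟨(Finset.range (2 * N + 1)).sup Q, fun g hg hc c hcc hd hq => ?_⟩
  obtain ⟨h1, h2⟩ := eOf_facts hg
  have h3 : Q (eOf g) ≤ (Finset.range (2 * N + 1)).sup Q :=
    Finset.le_sup (f := Q) (Finset.mem_range.2 (by omega))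
  obtain ⟨u, j, hu, hj, ho, hdv, hB⟩ := hQ (eOf g) h1 (qOf g) (h3.trans hq)
  obtain ⟨h4, h5⟩ := bigU_of hg hc hcc hu ho hdv
  exact ⟨u, j, h4, hj, h5, hB⟩

theorem prod_le_list {f : ℕ → ℕ} {C n : ℕ} (h : ∀ i < n, f i ≤ C) : ((List.range n).map f).prod ≤ C ^ n := by
  induction n with
  | zero => simp
  | succ n ih =>
    rw [List.range_succ, List.map_append, List.prod_append, pow_succ]
    refine Nat.mul_le_mul (ih fun i hi => h i (by omega)) ?_
    simpa using h n (by omega)

/-- the order is bounded by `q` and the dimension -/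
theorem num_le {g : Grp} (hg : BigCl g) (hc : Cond g) : num g ≤ qOf g ^ ((dimOf g + 1) * (2 * dimOf g)) := by
  have hq2 := qOf_ge hg hc
  cases g with
  | psl n q =>
    have hq : 2 ≤ q := hq2
    change glN n q ≤ q ^ ((n + 1) * (2 * n))
    refine (prod_le_list (C := q ^ n) fun i _ => Nat.sub_le _ _).trans ?_
    rw [← pow_mul]
    exact Nat.pow_le_pow_right (by omega) (by linarith only [_root_.mul_self_nonneg (↑n : ℤ), _root_.Nat.cast_nonneg (α := ℤ) (n)])
  | psu n q =>
    have hq : 2 ≤ q := hq2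
    have hn : 4 ≤ n := hg
    change q ^ (n * (n - 1) / 2) * prU q n ≤ q ^ ((n + 1) * (2 * n))
    have h1 : prU q n ≤ (q ^ (n + 1)) ^ n := by
      refine prod_le_list fun i hi => ?_
      have h2 : q ^ (i + 1) + 1 ≤ q ^ (n + 1) := by
        calc q ^ (i + 1) + 1 ≤ q ^ (i + 1) * 2 := by
              have := Nat.one_le_pow (i + 1) q (by omega); omega
          _ ≤ q ^ (i + 1) * q := Nat.mul_le_mul_left _ hq
          _ = q ^ (i + 2) := by rw [← pow_succ]
          _ ≤ q ^ (n + 1) := Nat.pow_le_pow_right (by omega) (by omega)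
      split_ifs
      · exact h2
      · omega
    calc q ^ (n * (n - 1) / 2) * prU q n ≤ q ^ (n * (n - 1) / 2) * (q ^ (n + 1)) ^ n := Nat.mul_le_mul_left _ h1
      _ = q ^ (n * (n - 1) / 2 + (n + 1) * n) := by rw [← pow_mul, ← pow_add]
      _ ≤ q ^ ((n + 1) * (2 * n)) := Nat.pow_le_pow_right (by omega) (by
          have h3 : n * (n - 1) / 2 ≤ n * (n - 1) := Nat.div_le_self _ _
          have h4 : n * (n - 1) ≤ n * n := Nat.mul_le_mul_left _ (Nat.sub_le _ _)
          linarith only [h3, h4])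
  | psp m q =>
    have hq : 2 ≤ q := hq2
    have hm : 3 ≤ m := hg
    change q ^ (m ^ 2) * prB q m ≤ q ^ ((2 * m + 1) * (2 * (2 * m)))
    have h1 : prB q m ≤ (q ^ (2 * m)) ^ m := prod_le_list fun i hi =>
      (Nat.sub_le _ _).trans (Nat.pow_le_pow_right (by omega) (by omega))
    calc q ^ (m ^ 2) * prB q m ≤ q ^ (m ^ 2) * (q ^ (2 * m)) ^ m := Nat.mul_le_mul_left _ h1
      _ = q ^ (m ^ 2 + 2 * m * m) := by rw [← pow_mul, ← pow_add]
      _ ≤ _ := Nat.pow_le_pow_right (by omega) (by linarith only [_root_.sq_nonneg (↑m : ℤ)])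
  | oodd m q =>
    have hq : 2 ≤ q := hq2
    have hm : 3 ≤ m := hg
    change q ^ (m ^ 2) * prB q m ≤ q ^ ((2 * m + 1 + 1) * (2 * (2 * m + 1)))
    have h1 : prB q m ≤ (q ^ (2 * m)) ^ m := prod_le_list fun i hi =>
      (Nat.sub_le _ _).trans (Nat.pow_le_pow_right (by omega) (by omega))
    calc q ^ (m ^ 2) * prB q m ≤ q ^ (m ^ 2) * (q ^ (2 * m)) ^ m := Nat.mul_le_mul_left _ h1
      _ = q ^ (m ^ 2 + 2 * m * m) := by rw [← pow_mul, ← pow_add]
      _ ≤ _ := Nat.pow_le_pow_right (by omega) (by linarith only [_root_.sq_nonneg (↑m : ℤ)])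
  | oplus m q =>
    have hq : 2 ≤ q := hq2
    have hm : 4 ≤ m := hg
    change q ^ (m * (m - 1)) * ((q ^ m - 1) * prB q (m - 1)) ≤ q ^ ((2 * m + 1) * (2 * (2 * m)))
    have h1 : prB q (m - 1) ≤ (q ^ (2 * m)) ^ (m - 1) := prod_le_list fun i hi =>
      (Nat.sub_le _ _).trans (Nat.pow_le_pow_right (by omega) (by omega))
    obtain ⟨k, rfl⟩ : ∃ k, m = k + 1 := ⟨m - 1, by omega⟩
    rw [Nat.add_sub_cancel] at *
    calc q ^ ((k + 1) * k) * ((q ^ (k + 1) - 1) * prB q k)
        ≤ q ^ ((k + 1) * k) * (q ^ (k + 1) * (q ^ (2 * (k + 1))) ^ k) :=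
          Nat.mul_le_mul_left _ (Nat.mul_le_mul (Nat.sub_le _ _) h1)
      _ = q ^ ((k + 1) * k + ((k + 1) + 2 * (k + 1) * k)) := by rw [← pow_mul, ← pow_add, ← pow_add]
      _ ≤ _ := Nat.pow_le_pow_right (by omega) (by nlinarith only [])
  | ominus m q =>
    have hq : 2 ≤ q := hq2
    have hm : 4 ≤ m := hg
    change q ^ (m * (m - 1)) * ((q ^ m + 1) * prB q (m - 1)) ≤ q ^ ((2 * m + 1) * (2 * (2 * m)))
    have h1 : prB q (m - 1) ≤ (q ^ (2 * m)) ^ (m - 1) := prod_le_list fun i hi =>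
      (Nat.sub_le _ _).trans (Nat.pow_le_pow_right (by omega) (by omega))
    have h2 : q ^ m + 1 ≤ q ^ (m + 1) := by
      rw [pow_succ]
      have := Nat.one_le_pow m q (by omega)
      nlinarith only [hq, this]
    obtain ⟨k, rfl⟩ : ∃ k, m = k + 1 := ⟨m - 1, by omega⟩
    rw [Nat.add_sub_cancel] at *
    calc q ^ ((k + 1) * k) * ((q ^ (k + 1) + 1) * prB q k)
        ≤ q ^ ((k + 1) * k) * (q ^ (k + 1 + 1) * (q ^ (2 * (k + 1))) ^ k) :=
          Nat.mul_le_mul_left _ (Nat.mul_le_mul h2 h1)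
      _ = q ^ ((k + 1) * k + ((k + 1 + 1) + 2 * (k + 1) * k)) := by rw [← pow_mul, ← pow_add, ← pow_add]
      _ ≤ _ := Nat.pow_le_pow_right (by omega) (by nlinarith only [])
  | _ => exact hg.elim

theorem den_pos {g : Grp} (hg : BigCl g) (hc : Cond g) : 1 ≤ den g := by
  have hq2 := qOf_ge hg hc
  cases g with
  | psl n q =>
    have hq : 2 ≤ q := hq2
    exact Nat.mul_pos (Nat.gcd_pos_of_pos_right _ (by omega)) (by omega)
  | psu n q => exact Nat.mul_pos (Nat.gcd_pos_of_pos_right _ (by omega)) (by omega)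
  | psp m q => exact Nat.gcd_pos_of_pos_left _ (by norm_num)
  | oodd m q => exact (by norm_num : 1 ≤ 2)
  | oplus m q => exact Nat.gcd_pos_of_pos_left _ (by norm_num)
  | ominus m q => exact Nat.gcd_pos_of_pos_left _ (by norm_num)
  | _ => exact hg.elim

/-- large order and bounded dimension: large `q` -/
theorem q_large {g : Grp} (hg : BigCl g) (hc : Cond g) {c : ℕ} (h : den g * c = num g) {N Q : ℕ} (hd : dimOf g ≤ N)
    (hcc : (Q + 1) ^ ((N + 1) * (2 * N)) < c) : Q ≤ qOf g := by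
  by_contra hcon
  push Not at hcon
  have h1 := num_le hg hc
  have h2 : c ≤ num g := by
    rw [← h]
    exact Nat.le_mul_of_pos_left _ (den_pos hg hc)
  have h3 : qOf g ^ ((dimOf g + 1) * (2 * dimOf g)) ≤ (Q + 1) ^ ((N + 1) * (2 * N)) :=
    (Nat.pow_le_pow_left (by omega) _).trans (Nat.pow_le_pow_right (by omega)
      (Nat.mul_le_mul (by omega) (by omega)))
  omega

/-- **Bounded dimension**: every subgroup of bounded order of a large classical group misses a power of a large
prime. -/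
theorem bigPow_of_card_le (N B : ℕ) : ∃ D : ℕ, ∀ (g : Grp) (T : Type) [Group T] [Finite T], IsNamed g T → BigCl g →
    dimOf g ≤ N → D ≤ Nat.card T → ∀ R : Subgroup T, Nat.card R ≤ B → BigPow g R := by
  obtain ⟨Q, hQ⟩ := exists_bigPow N B
  refine ⟨(Q + 1) ^ ((N + 1) * (2 * N)) + 1, fun g T _ _ hT hg hd hD R hR => ?_⟩
  obtain ⟨u, j, h1, h2, h3, h4⟩ := hQ g hg hT.cond _ hT.eq hd (q_large hg hT.cond hT.eq hd (by omega))
  refine ⟨u, j, h1, h2, h3, fun h => ?_⟩
  have := Nat.le_of_dvd Nat.card_pos h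
  omega

end Cfsg.Agent.H851.Dg
end
end

-- part: H807/Dg/Names
section
set_option linter.all false
open scoped Cfsg.Agent.FastGrp

/-!
# S5734: finitely many names with small Landazuri-Seitz bound (task 2833)
-/

set_option autoImplicit false

namespace Cfsg.Agent.H807.Dg

open Cfsg.Agent.OrdDiv Cfsg.Agent.H436 Cfsg.Agent.H927.SgX
open Cfsg.Agent.H884.Cx (excM lb)

/-- the names with parameters at most `M` -/
def names (M : ℕ) : Finset Grp :=
  (Finset.range (M + 1)).image Grp.alt ∪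
  ((Finset.range (M + 1) ×ˢ Finset.range (M + 1)).image (fun x => Grp.psl x.1 x.2) ∪
  ((Finset.range (M + 1) ×ˢ Finset.range (M + 1)).image (fun x => Grp.psp x.1 x.2) ∪
  ((Finset.range (M + 1) ×ˢ Finset.range (M + 1)).image (fun x => Grp.psu x.1 x.2) ∪
  ((Finset.range (M + 1) ×ˢ Finset.range (M + 1)).image (fun x => Grp.oodd x.1 x.2) ∪
  ((Finset.range (M + 1) ×ˢ Finset.range (M + 1)).image (fun x => Grp.oplus x.1 x.2) ∪
  ((Finset.range (M + 1) ×ˢ Finset.range (M + 1)).image (fun x => Grp.ominus x.1 x.2) ∪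
  ((Finset.range (M + 1)).image Grp.g2 ∪
  ((Finset.range (M + 1)).image Grp.f4 ∪
  ((Finset.range (M + 1)).image Grp.e6 ∪
  ((Finset.range (M + 1)).image Grp.e7 ∪
  ((Finset.range (M + 1)).image Grp.e8 ∪
  ((Finset.range (M + 1)).image Grp.te6 ∪
  ((Finset.range (M + 1)).image Grp.td4 ∪
  ((Finset.range (M + 1)).image Grp.sz ∪
  ((Finset.range (M + 1)).image Grp.ree ∪
  ((Finset.range (M + 1)).image Grp.tf4 ∪
  ((spor.map Prod.fst).toFinset ∪ excM.toFinset)))))))))))))))))

variable {M m s : ℕ}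

theorem mem_alt (hm : m ≤ M) : Grp.alt m ∈ names M := by
  simp only [names, Finset.mem_union, Finset.mem_image, Finset.mem_range]
  exact .inl ⟨m, by omega, rfl⟩

theorem mem_psl (hm : m ≤ M) (hs : s ≤ M) : Grp.psl m s ∈ names M := by
  simp only [names, Finset.mem_union, Finset.mem_image, Finset.mem_product, Finset.mem_range]
  exact .inr (.inl ⟨(m, s), ⟨by change m < M + 1; omega, by change s < M + 1; omega⟩, rfl⟩)

theorem mem_psp (hm : m ≤ M) (hs : s ≤ M) : Grp.psp m s ∈ names M := by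
  simp only [names, Finset.mem_union, Finset.mem_image, Finset.mem_product, Finset.mem_range]
  exact .inr (.inr (.inl ⟨(m, s), ⟨by change m < M + 1; omega, by change s < M + 1; omega⟩, rfl⟩))

theorem mem_psu (hm : m ≤ M) (hs : s ≤ M) : Grp.psu m s ∈ names M := by
  simp only [names, Finset.mem_union, Finset.mem_image, Finset.mem_product, Finset.mem_range]
  exact .inr (.inr (.inr (.inl ⟨(m, s), ⟨by change m < M + 1; omega, by change s < M + 1; omega⟩, rfl⟩)))

theorem mem_oodd (hm : m ≤ M) (hs : s ≤ M) : Grp.oodd m s ∈ names M := by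
  simp only [names, Finset.mem_union, Finset.mem_image, Finset.mem_product, Finset.mem_range]
  exact .inr (.inr (.inr (.inr (.inl
    ⟨(m, s), ⟨by change m < M + 1; omega, by change s < M + 1; omega⟩, rfl⟩))))

theorem mem_oplus (hm : m ≤ M) (hs : s ≤ M) : Grp.oplus m s ∈ names M := by
  simp only [names, Finset.mem_union, Finset.mem_image, Finset.mem_product, Finset.mem_range]
  exact .inr (.inr (.inr (.inr (.inr (.inl
    ⟨(m, s), ⟨by change m < M + 1; omega, by change s < M + 1; omega⟩, rfl⟩)))))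

theorem mem_ominus (hm : m ≤ M) (hs : s ≤ M) : Grp.ominus m s ∈ names M := by
  simp only [names, Finset.mem_union, Finset.mem_image, Finset.mem_product, Finset.mem_range]
  exact .inr (.inr (.inr (.inr (.inr (.inr (.inl
    ⟨(m, s), ⟨by change m < M + 1; omega, by change s < M + 1; omega⟩, rfl⟩))))))

theorem mem_g2 (hs : s ≤ M) : Grp.g2 s ∈ names M := by
  simp only [names, Finset.mem_union, Finset.mem_image, Finset.mem_range]
  exact .inr (.inr (.inr (.inr (.inr (.inr (.inr (.inl ⟨s, by omega, rfl⟩)))))))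

theorem mem_f4 (hs : s ≤ M) : Grp.f4 s ∈ names M := by
  simp only [names, Finset.mem_union, Finset.mem_image, Finset.mem_range]
  exact .inr (.inr (.inr (.inr (.inr (.inr (.inr (.inr (.inl ⟨s, by omega, rfl⟩))))))))

theorem mem_e6 (hs : s ≤ M) : Grp.e6 s ∈ names M := by
  simp only [names, Finset.mem_union, Finset.mem_image, Finset.mem_range]
  exact .inr (.inr (.inr (.inr (.inr (.inr (.inr (.inr (.inr (.inl ⟨s, by omega, rfl⟩)))))))))

theorem mem_e7 (hs : s ≤ M) : Grp.e7 s ∈ names M := by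
  simp only [names, Finset.mem_union, Finset.mem_image, Finset.mem_range]
  exact .inr (.inr (.inr (.inr (.inr (.inr (.inr (.inr (.inr (.inr (.inl ⟨s, by omega, rfl⟩))))))))))

theorem mem_e8 (hs : s ≤ M) : Grp.e8 s ∈ names M := by
  simp only [names, Finset.mem_union, Finset.mem_image, Finset.mem_range]
  exact .inr (.inr (.inr (.inr (.inr (.inr (.inr (.inr (.inr (.inr (.inr (.inl ⟨s, by omega, rfl⟩)))))))))))

theorem mem_te6 (hs : s ≤ M) : Grp.te6 s ∈ names M := by
  simp only [names, Finset.mem_union, Finset.mem_image, Finset.mem_range]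
  exact .inr (.inr (.inr (.inr (.inr (.inr (.inr (.inr (.inr (.inr (.inr (.inr (.inl ⟨s, by omega, rfl⟩))))))))))))

theorem mem_td4 (hs : s ≤ M) : Grp.td4 s ∈ names M := by
  simp only [names, Finset.mem_union, Finset.mem_image, Finset.mem_range]
  exact .inr (.inr (.inr (.inr (.inr (.inr (.inr (.inr (.inr (.inr (.inr (.inr (.inr
    (.inl ⟨s, by omega, rfl⟩)))))))))))))

theorem mem_sz (hs : s ≤ M) : Grp.sz s ∈ names M := by
  simp only [names, Finset.mem_union, Finset.mem_image, Finset.mem_range]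
  exact .inr (.inr (.inr (.inr (.inr (.inr (.inr (.inr (.inr (.inr (.inr (.inr (.inr (.inr
    (.inl ⟨s, by omega, rfl⟩))))))))))))))

theorem mem_ree (hs : s ≤ M) : Grp.ree s ∈ names M := by
  simp only [names, Finset.mem_union, Finset.mem_image, Finset.mem_range]
  exact .inr (.inr (.inr (.inr (.inr (.inr (.inr (.inr (.inr (.inr (.inr (.inr (.inr (.inr (.inr
    (.inl ⟨s, by omega, rfl⟩)))))))))))))))

theorem mem_tf4 (hs : s ≤ M) : Grp.tf4 s ∈ names M := by
  simp only [names, Finset.mem_union, Finset.mem_image, Finset.mem_range]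
  exact .inr (.inr (.inr (.inr (.inr (.inr (.inr (.inr (.inr (.inr (.inr (.inr (.inr (.inr (.inr (.inr
    (.inl ⟨s, by omega, rfl⟩))))))))))))))))

theorem mem_spor {g : Grp} (hg : ∃ x ∈ spor, x.1 = g) : g ∈ names M := by
  obtain ⟨x, hx, rfl⟩ := hg
  have h1 : x.1 ∈ (spor.map Prod.fst).toFinset := List.mem_toFinset.2 (List.mem_map_of_mem hx)
  unfold names
  iterate 17 refine Finset.mem_union_right _ ?_
  exact Finset.mem_union_left _ h1

theorem mem_excM {g : Grp} (hg : g ∈ excM) : g ∈ names M := by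
  have h1 : g ∈ excM.toFinset := List.mem_toFinset.2 hg
  unfold names
  iterate 18 refine Finset.mem_union_right _ ?_
  exact h1

attribute [irreducible] names

section bounds

theorem pow_bd {s k N : ℕ} (hs : 2 ≤ s) (hk : 1 ≤ k) (h : s ^ k ≤ N) : s ≤ N ∧ k ≤ N := by
  have h1 : s ≤ s ^ k := Nat.le_self_pow (by omega) s
  have h2 : k < s ^ k := Nat.lt_pow_self (by omega)
  omega

theorem mul_bd {s k N : ℕ} (hs : 2 ≤ s) (hk : 1 ≤ k) (h : (s - 1) * s ^ k ≤ N) : s ≤ N ∧ k ≤ N := by
  refine pow_bd hs hk (le_trans ?_ h)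
  exact Nat.le_mul_of_pos_left _ (by omega)

/-- **finitely many names** -/
theorem mem_names {g : Grp} {N : ℕ} (hg : Cond g) (hlie : IsLieN g) (h : lsb g ≤ N) : g ∈ names (2 * N + 10) := by
  cases g with
  | psl m s =>
    have h : (if m = 2 then (s - 1) / 2 else s ^ (m - 1) - 1) ≤ N := h
    have hs := hg.2.2.two_le
    have hm := hg.1
    split_ifs at h with h2
    · exact mem_psl (by omega) (by omega)
    · obtain ⟨h3, h4⟩ := pow_bd (s := s) (k := m - 1) (N := N + 1) hs (by omega) (by omega)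
      exact mem_psl (by omega) (by omega)
  | psp m s =>
    have h : (if s % 2 = 1 then (s ^ m - 1) / 2 else s ^ m - 1) ≤ N := h
    have hs := hg.2.2.two_le
    have hm := hg.1
    have h5 : s ^ m ≤ 2 * N + 2 := by split_ifs at h <;> omega
    obtain ⟨h3, h4⟩ := pow_bd hs (by omega) h5
    exact mem_psp (by omega) (by omega)
  | psu m s =>
    have h : (s - 1) * s ^ (m - 2) ≤ N := h
    have hs := hg.2.2.two_le
    have hm := hg.1
    obtain ⟨h3, h4⟩ := mul_bd hs (by omega) h
    exact mem_psu (by omega) (by omega)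
  | oodd m s =>
    have h : max (s ^ 3 - 1) (s ^ (m - 1) - 1) ≤ N := h
    have hs := hg.2.2.two_le
    have hm := hg.1
    have h5 := (le_max_right _ _).trans h
    obtain ⟨h3, h4⟩ := pow_bd (s := s) (k := m - 1) (N := N + 1) hs (by omega) (by omega)
    exact mem_oodd (by omega) (by omega)
  | oplus m s =>
    have h : max (s ^ 3 - 1) (s ^ (m - 1) - 1) ≤ N := h
    have hs := hg.2.two_le
    have hm := hg.1
    have h5 := (le_max_right _ _).trans h
    obtain ⟨h3, h4⟩ := pow_bd (s := s) (k := m - 1) (N := N + 1) hs (by omega) (by omega)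
    exact mem_oplus (by omega) (by omega)
  | ominus m s =>
    have h : max (s ^ 3 - 1) (s ^ (m - 2) - 1) ≤ N := h
    have hs := hg.2.two_le
    have hm := hg.1
    have h5 := (le_max_right _ _).trans h
    obtain ⟨h3, h4⟩ := pow_bd (s := s) (k := m - 2) (N := N + 1) hs (by omega) (by omega)
    exact mem_ominus (by omega) (by omega)
  | g2 s =>
    have h : (if s ≤ 4 then 0 else (s - 1) * s) ≤ N := h
    have hs := hg.2.two_le
    split_ifs at h with h2
    · exact mem_g2 (by omega)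
    · obtain ⟨h3, h4⟩ := mul_bd (s := s) (k := 1) (N := N) hs le_rfl (by rwa [pow_one])
      exact mem_g2 (by omega)
  | f4 s =>
    have h : (if s = 2 then 0 else (s - 1) * s ^ 3) ≤ N := h
    have hs := IsPrimePow.two_le hg
    split_ifs at h with h2
    · exact mem_f4 (by omega)
    · obtain ⟨h3, h4⟩ := mul_bd hs (by omega) h
      exact mem_f4 (by omega)
  | e6 s =>
    have hs := IsPrimePow.two_le hg
    obtain ⟨h3, h4⟩ := mul_bd hs (by omega) h
    exact mem_e6 (by omega)
  | e7 s =>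
    have hs := IsPrimePow.two_le hg
    obtain ⟨h3, h4⟩ := mul_bd hs (by omega) h
    exact mem_e7 (by omega)
  | e8 s =>
    have hs := IsPrimePow.two_le hg
    obtain ⟨h3, h4⟩ := mul_bd hs (by omega) h
    exact mem_e8 (by omega)
  | te6 s =>
    have h : (if s = 2 then 0 else (s - 1) * s ^ 6) ≤ N := h
    have hs := IsPrimePow.two_le hg
    split_ifs at h with h2
    · exact mem_te6 (by omega)
    · obtain ⟨h3, h4⟩ := mul_bd hs (by omega) h
      exact mem_te6 (by omega)
  | td4 s =>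
    have h : (if s ≤ 3 then 0 else (s - 1) * s ^ 3) ≤ N := h
    have hs := IsPrimePow.two_le hg
    split_ifs at h with h2
    · exact mem_td4 (by omega)
    · obtain ⟨h3, h4⟩ := mul_bd hs (by omega) h
      exact mem_td4 (by omega)
  | sz s =>
    have h : s - 1 ≤ N := h
    exact mem_sz (by omega)
  | ree s =>
    have h : (s - 1) / 2 ≤ N := h
    exact mem_ree (by omega)
  | tf4 s =>
    have h : (s - 1) * s ≤ N := h
    rcases Nat.lt_or_ge s 2 with h2 | h2
    · exact mem_tf4 (by omega)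
    · obtain ⟨h3, h4⟩ := mul_bd (s := s) (k := 1) (N := N) h2 le_rfl (by rwa [pow_one])
      exact mem_tf4 (by omega)
  | _ => exact hlie.elim

end bounds

/-- a bound for the orders of the groups with name in `names (2 N + 10)`, -/
@[irreducible] def bndS (N : ℕ) : ℕ := (names (2 * N + 10)).sup ordN

/-- a bound for the orders of the automorphism groups -/
@[irreducible] def bnd (N : ℕ) : ℕ := bndS N ^ bndS N

theorem card_mulAut_le (S : Type*) [Group S] [Finite S] {C : ℕ} (h : Nat.card S ≤ C) :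
    Nat.card (MulAut S) ≤ C ^ C := by
  have h1 : Nat.card (MulAut S) ≤ Nat.card (S → S) :=
    Nat.card_le_card_of_injective (fun f : MulAut S => (f : S → S)) (fun f g hfg => MulEquiv.ext (congrFun hfg))
  rw [Nat.card_fun] at h1
  have h2 : 0 < Nat.card S := Nat.card_pos
  calc Nat.card (MulAut S) ≤ Nat.card S ^ Nat.card S := h1
    _ ≤ C ^ Nat.card S := Nat.pow_le_pow_left h _
    _ ≤ C ^ C := Nat.pow_le_pow_right (by omega) h

theorem card_mulAut_le_bnd {g : Grp} {S : Type*} [Group S] [Finite S] (hS : IsNamed g S) {N : ℕ}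
    (hg : g ∈ names (2 * N + 10)) : Nat.card (MulAut S) ≤ bnd N := by
  have h1 : bnd N = bndS N ^ bndS N := by unfold bnd; rfl
  have h2 : bndS N = (names (2 * N + 10)).sup ordN := by unfold bndS; rfl
  rw [h1]
  refine card_mulAut_le S ?_
  rw [hS.ord, h2]
  exact Finset.le_sup hg

end Cfsg.Agent.H807.Dg

private theorem dce_7126c5f34577 : _root_.True := by
  try have : _root_.True := by simp only [_root_.Cfsg.Agent.H807.Dg.names.eq_1]
  exact _root_.True.intro
end

-- part: H262/Rg/Asm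
section
set_option linter.all false
open scoped Cfsg.Agent.FastGrp

/-!
# Random generation (S5714): the interface of the rows and the assembly

For a finite group `T`:
* `nongen T` : the number of pairs which do not generate `T`;
* `SetsOf T s α` : at most `s` normal sets, each of density at least `α`, such that every proper subgroup misses one;
* `RatioM T m γ` (`Ratio.lean`) : `E_y |χ (y ^ m)| ≤ γ χ(1)`;
* `FixB T β P` : for all `y` outside a set of density `P`: `∑_{t ∈ ⟨y⟩} Re χ(t) ≤ β |⟨y⟩| χ(1)`.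

Rows (`P : Grp → Prop`, names of `H436`):
* `FamG P` : `nongen T ≤ ε |T|²` for all large `T` with name in `P`;
* `SetRow P`, `RatioRow P`, `FixRow P`.
-/

set_option autoImplicit false
set_option linter.unusedSectionVars false

namespace Cfsg.Agent.H262.Rg.Asm

open Cfsg Cfsg.Agent.OrdDiv Cfsg.Agent.H436 Subgroup
open Cfsg.Agent.H262.Rg.Engine Cfsg.Agent.H262.Rg.Powers Cfsg.Agent.H262.Rg.Ratio
open Cfsg.Agent.H278.El.AltNum (dimOf)
open Cfsg.Agent.H851.Dg (BigCl)

universe u

/-- number of pairs not generating `T` -/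
noncomputable def nongen (T : Type u) [Group T] : ℕ :=
  Nat.card {p : T × T // _root_.Subgroup.closure {p.1, p.2} ≠ ⊤}

/-- at most `s` normal sets of density at least `α` such that every proper subgroup misses one of them -/
def SetsOf (T : Type u) [Group T] (s : ℕ) (α : ℝ) : Prop :=
  ∃ (n : ℕ) (A : Fin n → Set T), n ≤ s ∧ (∀ i, _root_.Cfsg.Agent.H262.Rg.Engine.Normal (A i)) ∧ (∀ i, α * Nat.card T ≤ Nat.card (A i)) ∧
    ∀ R : Subgroup T, R ≠ ⊤ → ∃ i, ∀ x ∈ R, x ∉ A i

section One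

variable {T : Type u} [Group T] [Fintype T]

/-- for all `y` outside a set of density `P`, the average of `χ` over `⟨y⟩` is at most `β χ(1)` -/
def FixB (T : Type u) [Group T] [Fintype T] (β P : ℝ) : Prop :=
  ∃ S : Set T, (Nat.card {y : T // y ∉ S} : ℝ) ≤ P * Nat.card T ∧ ∀ y ∈ S, ∀ χ : T → ℂ, IsIrrCharacter T χ → χ ≠ 1 →
    ∑ t ∈ (Set.toFinite (zpowers y : Set T)).toFinset, (χ t / χ 1).re ≤ β * Nat.card (zpowers y)

end One

section Rows

/-- `log₂ |T|` -/
noncomputable def lg (T : Type u) : ℕ := Nat.log 2 (Nat.card T)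

theorem le_lg {T : Type u} {k : ℕ} (h : 2 ^ k ≤ Nat.card T) : k ≤ lg T := by
  unfold lg
  have h2 : Nat.card T ≠ 0 := by
    have : 0 < 2 ^ k := by positivity
    omega
  exact Nat.le_log_of_pow_le (by norm_num) h

/-- `nongen T ≤ ε |T|²` for all large simple `T` with a name in `P` -/
def FamG (P : Grp → Prop) : Prop :=
  ∀ ε : ℝ, 0 < ε → ∃ D : ℕ, ∀ (g : Grp) (T : Type) [Group T] [Finite T] [IsSimpleGroup T],
    IsNamed g T → P g → D ≤ Nat.card T → (nongen T : ℝ) ≤ ε * (Nat.card T : ℝ) ^ 2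

/-- few dense normal sets such that every proper subgroup misses one of them -/
def SetRow (P : Grp → Prop) : Prop :=
  ∃ C : ℕ, 0 < C ∧ ∃ D : ℕ, ∀ (g : Grp) (T : Type) [Group T] [Finite T] [IsSimpleGroup T],
    IsNamed g T → P g → D ≤ Nat.card T → SetsOf T (C * lg T) (1 / (C * lg T))

/-- the ratios of the powers `y ^ m`, `m < (log |T|)^A`, are at most `(log |T|)^(-A)` on average -/
def RatioRow (P : Grp → Prop) : Prop :=
  ∀ A : ℕ, ∃ D : ℕ, ∀ (g : Grp) (T : Type) [Group T] [Fintype T] [IsSimpleGroup T],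
    IsNamed g T → P g → D ≤ Nat.card T → ∀ m, 0 < m → m < lg T ^ A → RatioM T m (1 / (lg T : ℝ) ^ A)

/-- large dimension: for most `y` the averages over `⟨y⟩` are at most `(log |T|)^(-A)` -/
def LargeFix (P : Grp → Prop) : Prop :=
  ∀ (A : ℕ) (ε : ℝ), 0 < ε → ∃ N : ℕ, ∀ (g : Grp) (T : Type) [Group T] [Fintype T] [IsSimpleGroup T],
    IsNamed g T → P g → N ≤ dimOf g → FixB T (1 / (lg T : ℝ) ^ A) ε

theorem FamG.mono {P Q : Grp → Prop} (hQ : FamG Q) (h : ∀ g, P g → Q g) : FamG P := by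
  intro ε hε
  obtain ⟨D, hD⟩ := hQ ε hε
  exact ⟨D, fun g T _ _ _ hT hg => hD g T hT (h g hg)⟩

theorem FamG.or {P Q : Grp → Prop} (hP : FamG P) (hQ : FamG Q) : FamG fun g => P g ∨ Q g := by
  intro ε hε
  obtain ⟨D, hD⟩ := hP ε hε
  obtain ⟨D', hD'⟩ := hQ ε hε
  refine ⟨max D D', fun g T _ _ _ hT hg h => ?_⟩
  rcases hg with hg | hg
  · exact hD g T hT hg ((le_max_left _ _).trans h)
  · exact hD' g T hT hg ((le_max_right _ _).trans h)

theorem SetRow.mono {P Q : Grp → Prop} (hQ : SetRow Q) (h : ∀ g, P g → Q g) : SetRow P := by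
  obtain ⟨C, hC, D, hD⟩ := hQ
  exact ⟨C, hC, D, fun g T _ _ _ hT hg => hD g T hT (h g hg)⟩

theorem RatioRow.mono {P Q : Grp → Prop} (hQ : RatioRow Q) (h : ∀ g, P g → Q g) : RatioRow P := by
  intro A
  obtain ⟨D, hD⟩ := hQ A
  exact ⟨D, fun g T _ _ _ hT hg => hD g T hT (h g hg)⟩

theorem RatioRow.or {P Q : Grp → Prop} (hP : RatioRow P) (hQ : RatioRow Q) : RatioRow fun g => P g ∨ Q g := by
  intro A
  obtain ⟨D, hD⟩ := hP A
  obtain ⟨D', hD'⟩ := hQ A
  refine ⟨max D D', fun g T _ _ _ hT hg h => ?_⟩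
  rcases hg with hg | hg
  · exact hD g T hT hg ((le_max_left _ _).trans h)
  · exact hD' g T hT hg ((le_max_right _ _).trans h)

/-- bounded order -/
theorem famG_of_card_le {P : Grp → Prop} (B : ℕ) (h : ∀ g, P g → num g ≤ B) : FamG P := by
  intro ε hε
  refine ⟨B + 1, fun g T _ _ _ hT hg hD => ?_⟩
  have h1 : Nat.card T ≤ B := by
    refine le_trans ?_ (h g hg)
    rw [← hT.eq]
    exact Nat.le_mul_of_pos_left _ (H436.den_pos hT.cond)
  omega

theorem exists_nat_pow_two (x : ℝ) : ∃ k : ℕ, 1 ≤ k ∧ x ≤ k := by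
  obtain ⟨k, hk⟩ := exists_nat_ge x
  exact ⟨k + 1, by omega, hk.trans (by push_cast; linarith)⟩

/-- transport of `nongen` -/
theorem nongen_congr {T : Type*} {T' : Type*} [Group T] [Group T'] (e : T ≃* T') : nongen T = nongen T' := by
  unfold nongen
  refine Nat.card_congr ((e.toEquiv.prodCongr e.toEquiv).subtypeEquiv fun p => ?_)
  have h1 : (_root_.Subgroup.closure {p.1, p.2}).map e.toMonoidHom = _root_.Subgroup.closure {e p.1, e p.2} := by
    rw [MonoidHom.map_closure]
    congr 1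
    simp [Set.image_pair]
  have h2 : _root_.Subgroup.closure {((e.toEquiv.prodCongr e.toEquiv) p).1, ((e.toEquiv.prodCongr e.toEquiv) p).2} =
      (_root_.Subgroup.closure {p.1, p.2}).map e.toMonoidHom := h1.symm
  rw [h2, not_iff_not]
  constructor
  · intro h
    rw [h, Subgroup.map_top_of_surjective _ e.surjective]
  · intro h
    have h3 := congrArg (Subgroup.comap e.toMonoidHom) h
    rwa [Subgroup.comap_map_eq_self_of_injective e.injective, Subgroup.comap_top] at h3

/-- a copy in `Type` -/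
theorem exists_zero (T : Type u) [Group T] [Finite T] : ∃ (T0 : Type) (_ : Group T0) (_ : Finite T0),
    Nonempty (T ≃* T0) := by
  have : Small.{0} T := inferInstance
  exact ⟨Shrink.{0} T, inferInstance, Finite.of_equiv T (equivShrink T), ⟨Shrink.mulEquiv.symm⟩⟩

/-- the cyclic groups -/
theorem nongen_comm (T : Type u) [Group T] [Finite T] [IsSimpleGroup T] (hc : IsMulCommutative T) : nongen T ≤ 1 := by
  unfold nongen
  rw [Finite.card_le_one_iff_subsingleton]
  refine ⟨fun a b => ?_⟩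
  have key : ∀ p : {p : T × T // _root_.Subgroup.closure {p.1, p.2} ≠ ⊤}, p.1 = (1, 1) := by
    intro p
    have hn : (closure {p.1.1, p.1.2}).Normal := ⟨fun x hx g => by
      rw [hc.is_comm.comm g x, mul_assoc, mul_inv_cancel, mul_one]
      exact hx⟩
    rcases hn.eq_bot_or_eq_top with h | h
    · have h1 : p.1.1 ∈ _root_.Subgroup.closure {p.1.1, p.1.2} := _root_.Subgroup.subset_closure (by simp)
      have h2 : p.1.2 ∈ _root_.Subgroup.closure {p.1.1, p.1.2} := _root_.Subgroup.subset_closure (by simp)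
      rw [h, mem_bot] at h1 h2
      exact Prod.ext h1 h2
    · exact absurd h p.2
  exact Subtype.ext ((key a).trans (key b).symm)

/-- **The assembly of S5714.** -/
theorem main (hname : ∀ (S : Type) [Group S] [Finite S] [IsSimpleGroup S], ¬ IsMulCommutative S → ∃ g, IsNamed g S)
    (h : FamG fun _ => True) (ε : ℝ) (hε : 0 < ε) :
    ∃ N : ℕ, ∀ (G : Type u) [Group G] [Finite G] [IsSimpleGroup G], N ≤ Nat.card G →
      (1 - ε) * (Nat.card G : ℝ) ^ 2 ≤ Nat.card {xy : G × G // _root_.Subgroup.closure {xy.1, xy.2} = ⊤} := by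
  obtain ⟨D, hD⟩ := h ε hε
  obtain ⟨k, hk1, hk⟩ := exists_nat_pow_two (1 / ε)
  refine ⟨D + k, fun G _ _ _ hG => ?_⟩
  have hpos : (0 : ℝ) < Nat.card G := by exact_mod_cast Nat.card_pos
  -- the number of non-generating pairs
  have h1 : (nongen G : ℝ) ≤ ε * (Nat.card G : ℝ) ^ 2 := by
    by_cases hc : IsMulCommutative G
    · have h2 : (nongen G : ℝ) ≤ 1 := by exact_mod_cast nongen_comm G hc
      have h3 : (1 / ε) ≤ Nat.card G := hk.trans (by exact_mod_cast (show k ≤ Nat.card G by omega))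
      rw [div_le_iff₀ hε] at h3
      have h4 : (1 : ℝ) ≤ Nat.card G := by
        exact_mod_cast (show 1 ≤ Nat.card G by omega)
      nlinarith only [h2, h3, h4]
    · obtain ⟨T0, _, _, ⟨e⟩⟩ := exists_zero G
      have hs : IsSimpleGroup T0 := e.symm.isSimpleGroup
      have hna : ¬ IsMulCommutative T0 := fun hc0 => hc ⟨⟨fun a b => e.injective (by
        rw [map_mul, map_mul]; exact hc0.is_comm.comm _ _)⟩⟩
      obtain ⟨g, hg⟩ := hname T0 hna
      have h2 := hD g T0 hg trivial (by rw [← Nat.card_congr e.toEquiv]; omega)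
      rw [nongen_congr e, Nat.card_congr e.toEquiv]
      exact h2
  have h2 : (Nat.card {xy : G × G // _root_.Subgroup.closure {xy.1, xy.2} = ⊤} : ℝ) + nongen G = (Nat.card G : ℝ) ^ 2 := by
    classical
    have := Fintype.ofFinite G
    have h3 : Nat.card {xy : G × G // _root_.Subgroup.closure {xy.1, xy.2} = ⊤} + nongen G = Nat.card G * Nat.card G := by
      rw [← Nat.card_prod]
      unfold nongen
      rw [← Nat.card_sum]
      exact Nat.card_congr (Equiv.sumCompl fun xy : G × G => closure {xy.1, xy.2} = ⊤)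
    rw [pow_two]
    exact_mod_cast h3
  linarith only [h1, h2]

end Rows

end Cfsg.Agent.H262.Rg.Asm
end
end
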